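import Mathlib
import Groth.Prelude.Def_PolLaw

/-!
# The degree-`d` piece of the divided power algebra is spanned by `d`-th divided powers (helper6)

If at each prime `p` of `A` either `k(p)` has at least `d` elements or `M_p` is cyclic, then
`Γ^d_A(M)` is spanned by the `γ_d(m)`.  Local argument with denominators: projective Vandermonde.
-/

set_option autoImplicit false
set_option linter.unusedSectionVars false
set_option linter.unusedVariables false
set_option linter.unusedSimpArgs false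
set_option linter.style.haveILetI false
set_option linter.overlappingInstances false
set_option maxHeartbeats 800000
set_option synthInstance.maxHeartbeats 400000

noncomputable section

namespace Groth.Agent.Lib.Helper6.GamSpan

open DividedPowerAlgebra Finset

universe u

/-- the span of the `e`-th divided powers -/
def Nd (A M : Type u) [CommRing A] [AddCommGroup M] [Module A M] (e : ℕ) :
    Submodule A (DividedPowerAlgebra A M) :=
  Submodule.span A (Set.range (dp A e : M → DividedPowerAlgebra A M))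

variable {A M : Type u} [CommRing A] [AddCommGroup M] [Module A M]

lemma dp_mem_Nd (e : ℕ) (m : M) : dp A e m ∈ Nd A M e :=
  Submodule.subset_span ⟨m, rfl⟩

/-- Cramer's rule for vectors in a module -/
lemma det_smul_mem {n : ℕ} {Γ : Type*} [AddCommGroup Γ] [Module A Γ] (N : Submodule A Γ)
    (V : Matrix (Fin n) (Fin n) A) (U : Fin n → Γ)
    (h : ∀ i, ∑ l, V i l • U l ∈ N) (j : Fin n) : V.det • U j ∈ N := by
  classical
  have key : V.det • U j = ∑ i, V.adjugate j i • ∑ l, V i l • U l := by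
    calc V.det • U j = ∑ l, ((V.det • (1 : Matrix (Fin n) (Fin n) A)) j l) • U l := by
          simp [Matrix.smul_apply, Matrix.one_apply]
      _ = ∑ l, ((V.adjugate * V) j l) • U l := by rw [Matrix.adjugate_mul]
      _ = ∑ l, ∑ i, (V.adjugate j i * V i l) • U l := by
          refine Finset.sum_congr rfl fun l _ => ?_
          rw [Matrix.mul_apply, Finset.sum_smul]
      _ = ∑ i, ∑ l, (V.adjugate j i * V i l) • U l := Finset.sum_comm
      _ = ∑ i, V.adjugate j i • ∑ l, V i l • U l := by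
          refine Finset.sum_congr rfl fun i _ => ?_
          rw [Finset.smul_sum]
          refine Finset.sum_congr rfl fun l _ => ?_
          rw [smul_smul]
  rw [key]
  exact Submodule.sum_mem _ fun i _ => Submodule.smul_mem _ _ (h i)

section points

variable (p : Ideal A) [hp : p.IsPrime]

lemma one_notMem : (1 : A) ∉ p := (Ideal.ne_top_iff_one p).mp hp.ne_top

lemma exists_frac (x : p.ResidueField) :
    ∃ a s : A, s ∉ p ∧ x * algebraMap A p.ResidueField s = algebraMap A p.ResidueField a := by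
  obtain ⟨y, rfl⟩ := IsLocalRing.residue_surjective (R := Localization.AtPrime p) x
  obtain ⟨a, s, rfl⟩ := IsLocalization.exists_mk'_eq p.primeCompl y
  refine ⟨a, s.1, s.2, ?_⟩
  rw [IsScalarTower.algebraMap_apply A (Localization.AtPrime p) p.ResidueField s.1,
    IsScalarTower.algebraMap_apply A (Localization.AtPrime p) p.ResidueField a,
    IsLocalRing.ResidueField.algebraMap_eq, ← map_mul, IsLocalization.mk'_spec]

lemma exists_points (e : ℕ) (h : (e : Cardinal.{u}) ≤ Cardinal.mk p.ResidueField) :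
    ∃ a s : Fin e → A, (∀ i, s i ∉ p) ∧ ∀ i j, i ≠ j → a j * s i - a i * s j ∉ p := by
  classical
  obtain ⟨S, rfl⟩ := Cardinal.exists_finset_eq_card h
  obtain ⟨f, hf⟩ : ∃ f : Fin S.card → p.ResidueField, Function.Injective f :=
    ⟨fun i => ((S.equivFin.symm i : S) : p.ResidueField), fun i j hij =>
      S.equivFin.symm.injective (Subtype.ext hij)⟩
  choose a s hs hfs using fun i => exists_frac p (f i)
  refine ⟨a, s, hs, ?_⟩
  intro i j hij hmem
  apply hij
  apply hf
  have h0 : algebraMap A p.ResidueField (a j * s i - a i * s j) = 0 :=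
    Ideal.algebraMap_residueField_eq_zero.mpr hmem
  rw [map_sub, map_mul, map_mul, ← hfs j, ← hfs i] at h0
  have hi : algebraMap A p.ResidueField (s i) ≠ 0 := fun h =>
    hs i (Ideal.algebraMap_residueField_eq_zero.mp h)
  have hj : algebraMap A p.ResidueField (s j) ≠ 0 := fun h =>
    hs j (Ideal.algebraMap_residueField_eq_zero.mp h)
  have h1 : (f j - f i) *
      (algebraMap A p.ResidueField (s i) * algebraMap A p.ResidueField (s j)) = 0 := by
    rw [← h0]; ring
  rcases mul_eq_zero.mp h1 with h2 | h2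
  · exact (sub_eq_zero.mp h2).symm
  · exact absurd h2 (mul_ne_zero hi hj)

/-- the two-factor case when the residue field is large -/
lemma two_card (e₁ e₂ : ℕ)
    (h : ((e₁ + e₂ : ℕ) : Cardinal.{u}) ≤ Cardinal.mk p.ResidueField) (m₁ m₂ : M) :
    ∃ t : A, t ∉ p ∧ t • (dp A e₁ m₁ * dp A e₂ m₂) ∈ Nd A M (e₁ + e₂) := by
  classical
  obtain ⟨e, he⟩ : ∃ e, e = e₁ + e₂ := ⟨_, rfl⟩
  rw [← he] at h ⊢
  obtain ⟨a, s, hs, has⟩ := exists_points p e h
  obtain ⟨v, hv⟩ : ∃ v : Fin (e + 1) → A, v = @Fin.snoc e (fun _ => A) a 1 := ⟨_, rfl⟩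
  obtain ⟨w, hw⟩ : ∃ w : Fin (e + 1) → A, w = @Fin.snoc e (fun _ => A) s 0 := ⟨_, rfl⟩
  have hrow : ∀ i, ∑ l : Fin (e + 1), (Matrix.projVandermonde v w) i l •
      (dp A l.1 m₂ * dp A (e - l.1) m₁) = dp A e (v i • m₂ + w i • m₁) := by
    intro i
    rw [dp_add, Finset.Nat.sum_antidiagonal_eq_sum_range_succ_mk, Finset.sum_range]
    refine Finset.sum_congr rfl fun l _ => ?_
    rw [dp_smul, dp_smul, smul_mul_smul_comm, Matrix.projVandermonde_apply, Fin.val_rev,
      Nat.add_sub_add_right]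
  have hdet : (Matrix.projVandermonde v w).det ∉ p := by
    rw [Matrix.det_projVandermonde]
    intro hmem
    obtain ⟨i, -, hi⟩ := (Ideal.IsPrime.prod_mem_iff).mp hmem
    obtain ⟨j, hj, hij⟩ := (Ideal.IsPrime.prod_mem_iff).mp hi
    rw [Finset.mem_Ioi] at hj
    rcases Fin.eq_castSucc_or_eq_last j with ⟨j', rfl⟩ | rfl
    · rcases Fin.eq_castSucc_or_eq_last i with ⟨i', rfl⟩ | rfl
      · rw [hv, hw] at hij
        simp only [Fin.snoc_castSucc] at hij
        have hne : i' ≠ j' := by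
          intro h
          rw [h] at hj
          exact lt_irrefl _ hj
        exact has i' j' hne hij
      · exact absurd hj (not_lt.mpr (Fin.le_last _))
    · rcases Fin.eq_castSucc_or_eq_last i with ⟨i', rfl⟩ | rfl
      · rw [hv, hw] at hij
        simp only [Fin.snoc_castSucc, Fin.snoc_last, one_mul, mul_zero, sub_zero] at hij
        exact hs i' hij
      · exact lt_irrefl _ hj
  refine ⟨(Matrix.projVandermonde v w).det, hdet, ?_⟩
  have h2 := det_smul_mem (Nd A M e) (Matrix.projVandermonde v w)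
    (fun l : Fin (e + 1) => dp A l.1 m₂ * dp A (e - l.1) m₁)
    (fun i => by rw [hrow]; exact dp_mem_Nd _ _) ⟨e₂, by omega⟩
  have h3 : e - e₂ = e₁ := by omega
  simp only [h3] at h2
  rw [mul_comm]
  exact h2

/-- a generator of `M_p` gives a common "numerator" for all elements -/
lemma exists_gen (hc : ∃ x : LocalizedModule p.primeCompl M,
      Submodule.span (Localization.AtPrime p) {x} = ⊤) :
    ∃ m₀ : M, ∀ m : M, ∃ s : A, s ∉ p ∧ ∃ a : A, s • m = a • m₀ := by
  obtain ⟨x, hx⟩ := hc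
  obtain ⟨m₀, s₀, rfl⟩ : ∃ m s, x = LocalizedModule.mk m s := by
    induction x using LocalizedModule.induction_on with
    | h m s => exact ⟨m, s, rfl⟩
  refine ⟨m₀, fun m => ?_⟩
  have hm : LocalizedModule.mk m (1 : p.primeCompl) ∈
      Submodule.span (Localization.AtPrime p) {LocalizedModule.mk m₀ s₀} := by
    rw [hx]; trivial
  obtain ⟨c, hc⟩ := Submodule.mem_span_singleton.mp hm
  obtain ⟨a, t, rfl⟩ := IsLocalization.exists_mk'_eq p.primeCompl c
  rw [← Localization.mk_eq_mk'_apply, LocalizedModule.mk_smul_mk, LocalizedModule.mk_eq] at hc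
  obtain ⟨u, hu⟩ := hc
  refine ⟨((u * (t * s₀) : p.primeCompl) : A), (u * (t * s₀)).2, (u : A) * a, ?_⟩
  simp only [Submonoid.smul_def, Submonoid.coe_one, one_smul, Submonoid.coe_mul, mul_smul]
    at hu ⊢
  exact hu.symm

/-- the two-factor case when `M_p` is cyclic -/
lemma two_cyc (hc : ∃ x : LocalizedModule p.primeCompl M,
      Submodule.span (Localization.AtPrime p) {x} = ⊤) (e₁ e₂ : ℕ) (m₁ m₂ : M) :
    ∃ t : A, t ∉ p ∧ t • (dp A e₁ m₁ * dp A e₂ m₂) ∈ Nd A M (e₁ + e₂) := by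
  obtain ⟨m₀, hm₀⟩ := exists_gen p hc
  obtain ⟨s₁, hs₁, a₁, h₁⟩ := hm₀ m₁
  obtain ⟨s₂, hs₂, a₂, h₂⟩ := hm₀ m₂
  refine ⟨s₁ ^ e₁ * s₂ ^ e₂, ?_, ?_⟩
  · intro hmem
    rcases hp.mem_or_mem hmem with h | h
    · exact hs₁ (hp.mem_of_pow_mem _ h)
    · exact hs₂ (hp.mem_of_pow_mem _ h)
  · have : (s₁ ^ e₁ * s₂ ^ e₂) • (dp A e₁ m₁ * dp A e₂ m₂) =
        (a₁ ^ e₁ * a₂ ^ e₂) • ((e₁ + e₂).choose e₁ • dp A (e₁ + e₂) m₀) := by
      rw [← smul_mul_smul_comm, ← dp_smul, ← dp_smul, h₁, h₂, dp_smul, dp_smul,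
        smul_mul_smul_comm, dp_mul]
    rw [this]
    exact Submodule.smul_mem _ _ (nsmul_mem (dp_mem_Nd _ _) _)

/-- the two-factor case -/
lemma two (d : ℕ) (h : (d : Cardinal.{u}) ≤ Cardinal.mk p.ResidueField ∨
      ∃ x : LocalizedModule p.primeCompl M, Submodule.span (Localization.AtPrime p) {x} = ⊤)
    (e₁ e₂ : ℕ) (he : e₁ + e₂ ≤ d) (m₁ m₂ : M) :
    ∃ t : A, t ∉ p ∧ t • (dp A e₁ m₁ * dp A e₂ m₂) ∈ Nd A M (e₁ + e₂) := by
  rcases h with h | h
  · exact two_card p e₁ e₂ (le_trans (by exact_mod_cast he) h) m₁ m₂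
  · exact two_cyc p h e₁ e₂ m₁ m₂

lemma mul_mem_aux (d : ℕ) (h : (d : Cardinal.{u}) ≤ Cardinal.mk p.ResidueField ∨
      ∃ x : LocalizedModule p.primeCompl M, Submodule.span (Localization.AtPrime p) {x} = ⊤)
    (e₁ e₂ : ℕ) (he : e₁ + e₂ ≤ d) (m₁ : M) {y : DividedPowerAlgebra A M}
    (hy : y ∈ Nd A M e₂) :
    ∃ t : A, t ∉ p ∧ t • (dp A e₁ m₁ * y) ∈ Nd A M (e₁ + e₂) := by
  unfold Nd at hy
  induction hy using Submodule.span_induction with
  | mem x hx =>
    obtain ⟨m₂, rfl⟩ := hx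
    exact two p d h e₁ e₂ he m₁ m₂
  | zero => exact ⟨1, one_notMem p, by simp⟩
  | add x y _ _ ihx ihy =>
    obtain ⟨t₁, ht₁, h₁⟩ := ihx
    obtain ⟨t₂, ht₂, h₂⟩ := ihy
    refine ⟨t₁ * t₂, fun hm => (hp.mem_or_mem hm).elim ht₁ ht₂, ?_⟩
    rw [mul_add, smul_add]
    refine Submodule.add_mem _ ?_ ?_
    · rw [mul_comm t₁ t₂, mul_smul]
      exact Submodule.smul_mem _ _ h₁
    · rw [mul_smul]
      exact Submodule.smul_mem _ _ h₂
  | smul a x _ ih =>
    obtain ⟨t, ht, h⟩ := ih
    refine ⟨t, ht, ?_⟩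
    rw [mul_smul_comm, smul_comm]
    exact Submodule.smul_mem _ _ h

lemma prod_mem_aux (d : ℕ) (h : (d : Cardinal.{u}) ≤ Cardinal.mk p.ResidueField ∨
      ∃ x : LocalizedModule p.primeCompl M, Submodule.span (Localization.AtPrime p) {x} = ⊤)
    {ι : Type*} (s : Finset ι) (k : ι → ℕ) (m : ι → M) (hk : ∑ i ∈ s, k i ≤ d) :
    ∃ t : A, t ∉ p ∧ t • ∏ i ∈ s, dp A (k i) (m i) ∈ Nd A M (∑ i ∈ s, k i) := by
  classical
  induction s using Finset.induction_on with
  | empty =>
    refine ⟨1, one_notMem p, ?_⟩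
    rw [Finset.prod_empty, Finset.sum_empty, one_smul, ← dp_zero (R := A) (m := (0 : M))]
    exact dp_mem_Nd _ _
  | insert a s ha ih =>
    rw [Finset.sum_insert ha] at hk ⊢
    rw [Finset.prod_insert ha]
    obtain ⟨t₁, ht₁, h₁⟩ := ih (le_trans (Nat.le_add_left _ _) hk)
    obtain ⟨t₂, ht₂, h₂⟩ := mul_mem_aux p d h (k a) _ hk (m a) h₁
    refine ⟨t₂ * t₁, fun hm => (hp.mem_or_mem hm).elim ht₂ ht₁, ?_⟩
    rw [mul_smul, ← mul_smul_comm]
    exact h₂

end points

/-- `Γ^d` is spanned by the `d`-th divided powers when residue fields are large or the module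
is locally cyclic -/
theorem span_dp_eq_gammaPiece (d : ℕ)
    (h : ∀ p : PrimeSpectrum A, (d : Cardinal) ≤ Cardinal.mk p.asIdeal.ResidueField ∨
      ∃ x : LocalizedModule p.asIdeal.primeCompl M,
        Submodule.span (Localization.AtPrime p.asIdeal) {x} = ⊤) :
    Submodule.span A (Set.range (dp A d : M → DividedPowerAlgebra A M)) =
      PolLaw.gammaPiece A M d := by
  apply le_antisymm
  · rw [Submodule.span_le]
    rintro _ ⟨m, rfl⟩
    apply Submodule.subset_span
    exact ⟨1, fun _ => d, fun _ => m, by simp, by simp⟩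
  · rw [PolLaw.gammaPiece, Submodule.span_le]
    rintro x ⟨n, k, m, hk, rfl⟩
    show ∏ i, dp A (k i) (m i) ∈ Nd A M d
    by_contra hx
    have hI : (Nd A M d).colon {∏ i, dp A (k i) (m i)} ≠ ⊤ := by
      intro htop
      apply hx
      have h1 : (1 : A) ∈ (Nd A M d).colon {∏ i, dp A (k i) (m i)} := by
        rw [htop]; trivial
      rw [Submodule.mem_colon_singleton, one_smul] at h1
      exact h1
    obtain ⟨𝔪, h𝔪, hle⟩ := Ideal.exists_le_maximal _ hI
    haveI := h𝔪.isPrime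
    obtain ⟨t, ht, hmem⟩ := prod_mem_aux 𝔪 d (h ⟨𝔪, h𝔪.isPrime⟩) Finset.univ k m (le_of_eq hk)
    rw [hk] at hmem
    exact ht (hle (Submodule.mem_colon_singleton.mpr hmem))

end Groth.Agent.Lib.Helper6.GamSpan
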