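import Mathlib
import Groth.Prelude.Def_PolLaw

/-!
# Converse: if `Γ^d_A(M)` is spanned by the `γ_d(m)` then residue fields are large or `M` is
locally cyclic (helper6)

Model of divided powers: elementary symmetric functions of square-zero elements
(generating polynomial `∏ (1 + z_i X)`), in `κ[x_1..x_d]/(x_i^2)`.
-/

set_option autoImplicit false
set_option linter.unusedSectionVars false
set_option linter.unusedVariables false
set_option linter.unusedSimpArgs false
set_option linter.style.haveILetI false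
set_option linter.overlappingInstances false
set_option maxHeartbeats 800000
set_option synthInstance.maxHeartbeats 400000

noncomputable section

namespace Groth.Agent.Lib.Helper6.GamSpan

open DividedPowerAlgebra Finset TensorProduct

universe u

section exp

variable {T : Type*} [CommRing T]

/-- exponential-type polynomials: the coefficients satisfy the divided power product rule -/
def IsExp (E : Polynomial T) : Prop :=
  E.coeff 0 = 1 ∧ ∀ n p : ℕ, E.coeff n * E.coeff p = ((n + p).choose n : T) * E.coeff (n + p)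

lemma isExp_one : IsExp (1 : Polynomial T) := by
  refine ⟨Polynomial.coeff_one_zero, fun n p => ?_⟩
  rcases Nat.eq_zero_or_pos n with rfl | hn
  · simp
  · have h1 : (1 : Polynomial T).coeff n = 0 := by
      rw [Polynomial.coeff_one, if_neg hn.ne']
    have h2 : (1 : Polynomial T).coeff (n + p) = 0 := by
      rw [Polynomial.coeff_one, if_neg (by omega)]
    rw [h1, h2, zero_mul, mul_zero]

lemma coeff_mul_lin (E : Polynomial T) (z : T) (n : ℕ) :
    (E * (1 + Polynomial.C z * Polynomial.X)).coeff (n + 1) = E.coeff (n + 1) + z * E.coeff n := by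
  rw [mul_add, mul_one, Polynomial.coeff_add, ← mul_assoc, Polynomial.coeff_mul_X, mul_comm E,
    Polynomial.coeff_C_mul]

lemma coeff_mul_lin_zero (E : Polynomial T) (z : T) :
    (E * (1 + Polynomial.C z * Polynomial.X)).coeff 0 = E.coeff 0 := by
  rw [mul_add, mul_one, Polynomial.coeff_add, ← mul_assoc, Polynomial.coeff_mul_X_zero, add_zero]

lemma IsExp.mul_lin {E : Polynomial T} (hE : IsExp E) {z : T} (hz : z * z = 0) :
    IsExp (E * (1 + Polynomial.C z * Polynomial.X)) := by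
  refine ⟨by rw [coeff_mul_lin_zero]; exact hE.1, fun n p => ?_⟩
  rcases n with _ | n
  · rw [coeff_mul_lin_zero, hE.1]; simp
  rcases p with _ | p
  · rw [coeff_mul_lin_zero, hE.1]; simp
  obtain ⟨N, hN⟩ : ∃ N, N = n + p + 1 := ⟨_, rfl⟩
  have e1 : n + 1 + (p + 1) = N + 1 := by omega
  have e2 : n + (p + 1) = N := by omega
  have e3 : n + 1 + p = N := by omega
  have h1 := hE.2 (n + 1) (p + 1)
  have h2 := hE.2 n (p + 1)
  have h3 := hE.2 (n + 1) p
  rw [e1] at h1
  rw [e2] at h2
  rw [e3] at h3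
  have hc : (((N + 1).choose (n + 1) : ℕ) : T) =
      ((N.choose n : ℕ) : T) + ((N.choose (n + 1) : ℕ) : T) := by
    rw [Nat.choose_succ_succ' N n, Nat.cast_add]
  rw [e1, coeff_mul_lin, coeff_mul_lin, coeff_mul_lin]
  linear_combination h1 + z * h2 + z * h3 + E.coeff n * E.coeff p * hz - z * E.coeff N * hc

lemma isExp_prod {ι : Type*} (s : Finset ι) (z : ι → T) (hz : ∀ i, z i * z i = 0) :
    IsExp (∏ i ∈ s, (1 + Polynomial.C (z i) * Polynomial.X)) := by
  classical
  induction s using Finset.induction_on with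
  | empty => rw [Finset.prod_empty]; exact isExp_one
  | insert a s ha ih => rw [Finset.prod_insert ha, mul_comm]; exact ih.mul_lin (hz a)

/-- the generating polynomial -/
def Ez {ι : Type*} [Fintype ι] (z : ι → T) : Polynomial T :=
  ∏ i, (1 + Polynomial.C (z i) * Polynomial.X)

lemma isExp_Ez {ι : Type*} [Fintype ι] (z : ι → T) (hz : ∀ i, z i * z i = 0) : IsExp (Ez z) :=
  isExp_prod Finset.univ z hz

lemma Ez_add {ι : Type*} [Fintype ι] (z z' : ι → T) (h : ∀ i, z i * z' i = 0) :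
    Ez (z + z') = Ez z * Ez z' := by
  unfold Ez
  rw [← Finset.prod_mul_distrib]
  refine Finset.prod_congr rfl fun i _ => ?_
  have h0 : Polynomial.C (z i) * Polynomial.C (z' i) = 0 := by
    rw [← Polynomial.C_mul, h i, map_zero]
  rw [Pi.add_apply, map_add]
  linear_combination (-(Polynomial.X ^ 2 : Polynomial T)) * h0

lemma Ez_smul {ι : Type*} [Fintype ι] (r : T) (z : ι → T) :
    Ez (fun i => r * z i) = (Ez z).comp (Polynomial.C r * Polynomial.X) := by
  unfold Ez
  rw [Polynomial.prod_comp]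
  refine Finset.prod_congr rfl fun i _ => ?_
  simp only [Polynomial.add_comp, Polynomial.one_comp, Polynomial.mul_comp, Polynomial.C_comp,
    Polynomial.X_comp, map_mul]
  ring

lemma natDegree_lin_le (z : T) :
    (1 + Polynomial.C z * Polynomial.X : Polynomial T).natDegree ≤ 1 := by
  refine (Polynomial.natDegree_add_le _ _).trans ?_
  rw [Polynomial.natDegree_one]
  exact max_le (Nat.zero_le _) ((Polynomial.natDegree_C_mul_le z Polynomial.X).trans Polynomial.natDegree_X_le)

lemma coeff_one_lin (z : T) : (1 + Polynomial.C z * Polynomial.X : Polynomial T).coeff 1 = z := by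
  simp [Polynomial.coeff_one]

lemma coeff_prod_card {ι : Type*} (s : Finset ι) (z : ι → T) :
    (∏ i ∈ s, (1 + Polynomial.C (z i) * Polynomial.X)).coeff s.card = ∏ i ∈ s, z i := by
  have h := Polynomial.coeff_prod_of_natDegree_le (s := s)
    (fun i => (1 + Polynomial.C (z i) * Polynomial.X : Polynomial T)) 1
    (fun i _ => natDegree_lin_le (z i))
  rw [mul_one] at h
  rw [h]
  exact Finset.prod_congr rfl fun i _ => coeff_one_lin (z i)

lemma coeff_prod_eq_zero {ι : Type*} (s : Finset ι) (z : ι → T) {n : ℕ} (hn : s.card < n) :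
    (∏ i ∈ s, (1 + Polynomial.C (z i) * Polynomial.X)).coeff n = 0 := by
  apply Polynomial.coeff_eq_zero_of_natDegree_lt
  refine lt_of_le_of_lt ?_ hn
  refine (Polynomial.natDegree_prod_le _ _).trans ?_
  calc ∑ i ∈ s, (1 + Polynomial.C (z i) * Polynomial.X : Polynomial T).natDegree
      ≤ ∑ i ∈ s, 1 := Finset.sum_le_sum fun i _ => natDegree_lin_le (z i)
    _ = s.card := by simp

lemma Ez_eq_prod_of_support {ι : Type*} [Fintype ι] (B : Finset ι) (z : ι → T)
    (h : ∀ i, i ∉ B → z i = 0) :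
    Ez z = ∏ i ∈ B, (1 + Polynomial.C (z i) * Polynomial.X) := by
  unfold Ez
  symm
  apply Finset.prod_subset (Finset.subset_univ B)
  intro i _ hi
  rw [h i hi, map_zero, zero_mul, add_zero]

end exp

section model

variable (κ : Type u) [Field κ] (d : ℕ)

/-- exponents of the squares of the variables -/
def sqSet : Set (Fin d →₀ ℕ) := {s | ∃ i, s = Finsupp.single i 2}

/-- the ideal generated by the squares of the variables -/
def J : Ideal (MvPolynomial (Fin d) κ) :=
  Ideal.span ((fun s => MvPolynomial.monomial s (1 : κ)) '' sqSet d)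

/-- the model ring -/
abbrev TT : Type u := MvPolynomial (Fin d) κ ⧸ J κ d

/-- the square-zero generators -/
def eps (i : Fin d) : TT κ d := Ideal.Quotient.mk (J κ d) (MvPolynomial.X i)

lemma eps_sq (i : Fin d) : eps κ d i * eps κ d i = 0 := by
  unfold eps
  rw [← map_mul, Ideal.Quotient.eq_zero_iff_mem, ← pow_two, MvPolynomial.X_pow_eq_monomial]
  exact Ideal.subset_span ⟨Finsupp.single i 2, ⟨i, rfl⟩, rfl⟩

lemma prod_eps_ne_zero : ∏ i, eps κ d i ≠ 0 := by
  unfold eps
  rw [← map_prod, Ne, Ideal.Quotient.eq_zero_iff_mem]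
  intro hmem
  have hX : ∏ i : Fin d, (MvPolynomial.X i : MvPolynomial (Fin d) κ) =
      MvPolynomial.monomial (∑ i : Fin d, Finsupp.single i 1) 1 := by
    rw [MvPolynomial.monomial_sum_one]
    rfl
  rw [hX, J, MvPolynomial.mem_ideal_span_monomial_image] at hmem
  obtain ⟨si, ⟨j, rfl⟩, hle⟩ := hmem (∑ i : Fin d, Finsupp.single i 1) (by
    classical
    rw [MvPolynomial.mem_support_iff, MvPolynomial.coeff_monomial, if_pos rfl]
    exact one_ne_zero)
  have h2 := Finsupp.le_def.mp hle j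
  rw [Finsupp.single_eq_same, Finsupp.finsetSum_apply] at h2
  simp [Finsupp.single_apply] at h2

end model

section lift

variable {A M : Type u} [CommRing A] [AddCommGroup M] [Module A M]
variable {κ : Type u} [Field κ] [Algebra A κ]
variable {T : Type u} [CommRing T] [Algebra A T] [Algebra κ T] [IsScalarTower A κ T]
variable {d : ℕ}

/-- the square-zero family attached to `m` and the block `B` -/
def zB (ε : Fin d → T) (φ₁ φ₂ : M →ₗ[A] κ) (B : Finset (Fin d)) (m : M) (i : Fin d) : T :=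
  algebraMap κ T (if i ∈ B then φ₁ m else φ₂ m) * ε i

lemma zB_sq (ε : Fin d → T) (hε : ∀ i, ε i * ε i = 0) (φ₁ φ₂ : M →ₗ[A] κ) (B : Finset (Fin d))
    (m m' : M) (i : Fin d) : zB ε φ₁ φ₂ B m i * zB ε φ₁ φ₂ B m' i = 0 := by
  unfold zB
  rw [mul_mul_mul_comm, hε i, mul_zero]

lemma zB_add (ε : Fin d → T) (φ₁ φ₂ : M →ₗ[A] κ) (B : Finset (Fin d)) (m m' : M) :
    zB ε φ₁ φ₂ B (m + m') = zB ε φ₁ φ₂ B m + zB ε φ₁ φ₂ B m' := by
  funext i
  unfold zB
  rw [Pi.add_apply]
  split_ifs <;> rw [map_add, map_add, add_mul]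

lemma zB_smul (ε : Fin d → T) (φ₁ φ₂ : M →ₗ[A] κ) (B : Finset (Fin d)) (r : A) (m : M) :
    zB ε φ₁ φ₂ B (r • m) = fun i => algebraMap A T r * zB ε φ₁ φ₂ B m i := by
  funext i
  unfold zB
  split_ifs <;>
  rw [map_smul, Algebra.smul_def, map_mul, ← IsScalarTower.algebraMap_apply, mul_assoc]

/-- the algebra map out of the divided power algebra attached to a block -/
def ΦB (ε : Fin d → T) (hε : ∀ i, ε i * ε i = 0) (φ₁ φ₂ : M →ₗ[A] κ) (B : Finset (Fin d)) :
    DividedPowerAlgebra A M →ₐ[A] T :=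
  DividedPowerAlgebra.lift' (f := fun nm : ℕ × M => (Ez (zB ε φ₁ φ₂ B nm.2)).coeff nm.1)
    (fun m => (isExp_Ez _ (fun i => zB_sq ε hε φ₁ φ₂ B m m i)).1)
    (fun n r m => by
      show (Ez (zB ε φ₁ φ₂ B (r • m))).coeff n = r ^ n • (Ez (zB ε φ₁ φ₂ B m)).coeff n
      rw [zB_smul, Ez_smul, Polynomial.comp_C_mul_X_coeff, Algebra.smul_def, map_pow, mul_comm])
    (fun n p m => by
      show (Ez (zB ε φ₁ φ₂ B m)).coeff n * (Ez (zB ε φ₁ φ₂ B m)).coeff p =
        (n + p).choose n • (Ez (zB ε φ₁ φ₂ B m)).coeff (n + p)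
      rw [nsmul_eq_mul]
      exact (isExp_Ez _ (fun i => zB_sq ε hε φ₁ φ₂ B m m i)).2 n p)
    (fun n u v => by
      show (Ez (zB ε φ₁ φ₂ B (u + v))).coeff n = _
      rw [zB_add, Ez_add _ _ (fun i => zB_sq ε hε φ₁ φ₂ B u v i), Polynomial.coeff_mul])

lemma ΦB_dp (ε : Fin d → T) (hε : ∀ i, ε i * ε i = 0) (φ₁ φ₂ : M →ₗ[A] κ) (B : Finset (Fin d))
    (n : ℕ) (m : M) :
    ΦB ε hε φ₁ φ₂ B (dp A n m) = (Ez (zB ε φ₁ φ₂ B m)).coeff n := by
  unfold ΦB
  rw [DividedPowerAlgebra.lift'_apply_dp]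

lemma prod_ite_block (B : Finset (Fin d)) (a b : κ) :
    ∏ i : Fin d, (if i ∈ B then a else b) = a ^ B.card * b ^ (d - B.card) := by
  classical
  rw [← Finset.prod_mul_prod_compl B]
  have h1 : ∏ i ∈ B, (if i ∈ B then a else b) = a ^ B.card := by
    rw [Finset.prod_congr rfl (fun i hi => if_pos hi), Finset.prod_const]
  have h2 : ∏ i ∈ Bᶜ, (if i ∈ B then a else b) = b ^ (d - B.card) := by
    rw [Finset.prod_congr rfl (fun i hi => if_neg (Finset.mem_compl.mp hi)), Finset.prod_const,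
      Finset.card_compl, Fintype.card_fin]
  rw [h1, h2]

lemma ΦB_dp_top (ε : Fin d → T) (hε : ∀ i, ε i * ε i = 0) (φ₁ φ₂ : M →ₗ[A] κ)
    (B : Finset (Fin d)) (m : M) :
    ΦB ε hε φ₁ φ₂ B (dp A d m) =
      algebraMap κ T ((φ₁ m) ^ B.card * (φ₂ m) ^ (d - B.card)) * ∏ i, ε i := by
  rw [ΦB_dp]
  have h := coeff_prod_card Finset.univ (zB ε φ₁ φ₂ B m)
  rw [Finset.card_univ, Fintype.card_fin] at h
  unfold Ez
  rw [h]
  unfold zB
  rw [Finset.prod_mul_distrib, ← map_prod, prod_ite_block]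

lemma ΦB_dp_left (ε : Fin d → T) (hε : ∀ i, ε i * ε i = 0) (φ₁ φ₂ : M →ₗ[A] κ)
    (B : Finset (Fin d)) (m₁ : M) (h1 : φ₁ m₁ = 1) (h2 : φ₂ m₁ = 0) :
    ΦB ε hε φ₁ φ₂ B (dp A B.card m₁) = ∏ i ∈ B, ε i := by
  rw [ΦB_dp, Ez_eq_prod_of_support B _ (fun i hi => by
    unfold zB; rw [if_neg hi, h2, map_zero, zero_mul]), coeff_prod_card]
  refine Finset.prod_congr rfl fun i hi => ?_
  unfold zB
  rw [if_pos hi, h1, map_one, one_mul]

lemma ΦB_dp_left_zero (ε : Fin d → T) (hε : ∀ i, ε i * ε i = 0) (φ₁ φ₂ : M →ₗ[A] κ)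
    (B : Finset (Fin d)) (m₁ : M) (h2 : φ₂ m₁ = 0) {n : ℕ} (hn : B.card < n) :
    ΦB ε hε φ₁ φ₂ B (dp A n m₁) = 0 := by
  rw [ΦB_dp, Ez_eq_prod_of_support B _ (fun i hi => by
    unfold zB; rw [if_neg hi, h2, map_zero, zero_mul])]
  exact coeff_prod_eq_zero B _ hn

lemma ΦB_dp_right (ε : Fin d → T) (hε : ∀ i, ε i * ε i = 0) (φ₁ φ₂ : M →ₗ[A] κ)
    (B : Finset (Fin d)) (m₂ : M) (h1 : φ₁ m₂ = 0) (h2 : φ₂ m₂ = 1) :
    ΦB ε hε φ₁ φ₂ B (dp A (d - B.card) m₂) = ∏ i ∈ Bᶜ, ε i := by
  classical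
  have hc : (Bᶜ).card = d - B.card := by rw [Finset.card_compl, Fintype.card_fin]
  rw [ΦB_dp, Ez_eq_prod_of_support Bᶜ _ (fun i hi => by
    have hi' : i ∈ B := by simpa using hi
    unfold zB; rw [if_pos hi', h1, map_zero, zero_mul]), ← hc, coeff_prod_card]
  refine Finset.prod_congr rfl fun i hi => ?_
  unfold zB
  rw [if_neg (Finset.mem_compl.mp hi), h2, map_one, one_mul]

end lift

section nak

variable {A M : Type u} [CommRing A] [AddCommGroup M] [Module A M]
variable (p : Ideal A) [hp : p.IsPrime]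

/-- the image of `m` in the fibre `κ(p) ⊗ M_p` -/
def iota (m : M) : p.ResidueField ⊗[Localization.AtPrime p] LocalizedModule p.primeCompl M :=
  (1 : p.ResidueField) ⊗ₜ[Localization.AtPrime p] (LocalizedModule.mk m (1 : p.primeCompl))

lemma one_tmul_smul (a : Localization.AtPrime p) (y : LocalizedModule p.primeCompl M) :
    (1 : p.ResidueField) ⊗ₜ[Localization.AtPrime p] (a • y) =
      (algebraMap (Localization.AtPrime p) p.ResidueField a) •
        ((1 : p.ResidueField) ⊗ₜ[Localization.AtPrime p] y) := by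
  rw [TensorProduct.tmul_smul, TensorProduct.smul_tmul', TensorProduct.smul_tmul',
    Algebra.smul_def, smul_eq_mul]

lemma iota_add (m m' : M) : iota p (m + m') = iota p m + iota p m' := by
  unfold iota
  rw [← TensorProduct.tmul_add, LocalizedModule.mk_add_mk, one_smul, one_smul, one_mul]

lemma mk_smul_one (r : A) (m : M) (s : p.primeCompl) :
    LocalizedModule.mk (r • m) s =
      (algebraMap A (Localization.AtPrime p) r) • LocalizedModule.mk m s := by
  rw [← Localization.mk_one_eq_algebraMap, LocalizedModule.mk_smul_mk, one_mul]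

lemma iota_smul (r : A) (m : M) :
    iota p (r • m) = (algebraMap A p.ResidueField r) • iota p m := by
  unfold iota
  rw [mk_smul_one, one_tmul_smul, ← IsScalarTower.algebraMap_apply]

/-- the `A`-linear functional on `M` attached to a functional on the fibre -/
def phiOf (ψ : Module.Dual p.ResidueField
    (p.ResidueField ⊗[Localization.AtPrime p] LocalizedModule p.primeCompl M)) :
    M →ₗ[A] p.ResidueField where
  toFun m := ψ (iota p m)
  map_add' m m' := by rw [iota_add, map_add]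
  map_smul' r m := by
    rw [iota_smul, map_smul, RingHom.id_apply, smul_eq_mul, Algebra.smul_def]

lemma exists_eq_smul_iota
    (v : p.ResidueField ⊗[Localization.AtPrime p] LocalizedModule p.primeCompl M) :
    ∃ (c : p.ResidueField) (m : M), v = c • iota p m := by
  obtain ⟨x, rfl⟩ := TensorProduct.mk_surjective (Localization.AtPrime p)
    (LocalizedModule p.primeCompl M) p.ResidueField
    (by rw [IsLocalRing.ResidueField.algebraMap_eq]; exact IsLocalRing.residue_surjective) v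
  obtain ⟨m, s, rfl⟩ : ∃ m s, x = LocalizedModule.mk m s := by
    induction x using LocalizedModule.induction_on with
    | h m s => exact ⟨m, s, rfl⟩
  have hs : algebraMap A p.ResidueField (s : A) ≠ 0 := fun h =>
    s.2 (Ideal.algebraMap_residueField_eq_zero.mp h)
  refine ⟨(algebraMap A p.ResidueField (s : A))⁻¹, m, ?_⟩
  have h1 : iota p m = algebraMap A p.ResidueField (s : A) •
      ((1 : p.ResidueField) ⊗ₜ[Localization.AtPrime p] LocalizedModule.mk m s) := by
    unfold iota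
    rw [← LocalizedModule.mk_cancel s m, Submonoid.smul_def, mk_smul_one, one_tmul_smul,
      ← IsScalarTower.algebraMap_apply]
  rw [h1, smul_smul, inv_mul_cancel₀ hs, one_smul, TensorProduct.mk_apply]

lemma cyclic_of_span [Module.Finite A M] (m₀ : M)
    (h : ∀ v : p.ResidueField ⊗[Localization.AtPrime p] LocalizedModule p.primeCompl M,
      ∃ c : p.ResidueField, v = c • iota p m₀) :
    ∃ x : LocalizedModule p.primeCompl M,
      Submodule.span (Localization.AtPrime p) {x} = ⊤ := by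
  refine ⟨LocalizedModule.mk m₀ 1, ?_⟩
  rw [← IsLocalRing.map_tensorProduct_mk_eq_top, eq_top_iff]
  intro v _
  obtain ⟨c, rfl⟩ := h v
  obtain ⟨a, rfl⟩ := IsLocalRing.residue_surjective c
  rw [Submodule.mem_map]
  refine ⟨a • LocalizedModule.mk m₀ 1,
    Submodule.smul_mem _ _ (Submodule.mem_span_singleton_self _), ?_⟩
  rw [TensorProduct.mk_apply, one_tmul_smul, IsLocalRing.ResidueField.algebraMap_eq]
  rfl

lemma exists_dual_pair [Module.Finite A M]
    (hnc : ¬ ∃ x : LocalizedModule p.primeCompl M,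
      Submodule.span (Localization.AtPrime p) {x} = ⊤) :
    ∃ (m₁ m₂ : M) (φ₁ φ₂ : M →ₗ[A] p.ResidueField),
      φ₁ m₁ = 1 ∧ φ₂ m₁ = 0 ∧ φ₁ m₂ = 0 ∧ φ₂ m₂ = 1 := by
  classical
  obtain ⟨m₁, hm₁⟩ : ∃ m₁ : M, iota p m₁ ≠ 0 := by
    by_contra hall
    have hall' : ∀ m : M, iota p m = 0 := fun m => by
      by_contra hm
      exact hall ⟨m, hm⟩
    apply hnc
    refine cyclic_of_span p 0 (fun v => ?_)
    obtain ⟨c, m, rfl⟩ := exists_eq_smul_iota p v
    exact ⟨0, by rw [hall' m, smul_zero, zero_smul]⟩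
  obtain ⟨m₂, hm₂⟩ : ∃ m₂ : M, iota p m₂ ∉ Submodule.span p.ResidueField {iota p m₁} := by
    by_contra hall
    have hall' : ∀ m : M, iota p m ∈ Submodule.span p.ResidueField {iota p m₁} := fun m => by
      by_contra hm
      exact hall ⟨m, hm⟩
    apply hnc
    refine cyclic_of_span p m₁ (fun v => ?_)
    obtain ⟨c, m, rfl⟩ := exists_eq_smul_iota p v
    obtain ⟨c', hc'⟩ := Submodule.mem_span_singleton.mp (hall' m)
    exact ⟨c * c', by rw [← hc', smul_smul]⟩
  have hm₁' : iota p m₁ ∉ Submodule.span p.ResidueField {iota p m₂} := by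
    intro hmem
    obtain ⟨c, hc⟩ := Submodule.mem_span_singleton.mp hmem
    have hc0 : c ≠ 0 := by
      rintro rfl
      rw [zero_smul] at hc
      exact hm₁ hc.symm
    apply hm₂
    rw [Submodule.mem_span_singleton]
    exact ⟨c⁻¹, by rw [← hc, smul_smul, inv_mul_cancel₀ hc0, one_smul]⟩
  obtain ⟨ψ₁, hψ₁, hψ₁'⟩ := Submodule.exists_dual_map_eq_bot_of_notMem hm₁' inferInstance
  obtain ⟨ψ₂, hψ₂, hψ₂'⟩ := Submodule.exists_dual_map_eq_bot_of_notMem hm₂ inferInstance
  have h12 : ψ₁ (iota p m₂) = 0 := by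
    have hmem : ψ₁ (iota p m₂) ∈ (Submodule.span p.ResidueField {iota p m₂}).map ψ₁ :=
      Submodule.mem_map_of_mem (Submodule.mem_span_singleton_self _)
    rw [hψ₁'] at hmem
    exact (Submodule.mem_bot _).mp hmem
  have h21 : ψ₂ (iota p m₁) = 0 := by
    have hmem : ψ₂ (iota p m₁) ∈ (Submodule.span p.ResidueField {iota p m₁}).map ψ₂ :=
      Submodule.mem_map_of_mem (Submodule.mem_span_singleton_self _)
    rw [hψ₂'] at hmem
    exact (Submodule.mem_bot _).mp hmem
  refine ⟨m₁, m₂, phiOf p ((ψ₁ (iota p m₁))⁻¹ • ψ₁), phiOf p ((ψ₂ (iota p m₂))⁻¹ • ψ₂),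
    ?_, ?_, ?_, ?_⟩
  · show ((ψ₁ (iota p m₁))⁻¹ • ψ₁) (iota p m₁) = 1
    rw [LinearMap.smul_apply, smul_eq_mul, inv_mul_cancel₀ hψ₁]
  · show ((ψ₂ (iota p m₂))⁻¹ • ψ₂) (iota p m₁) = 0
    rw [LinearMap.smul_apply, h21, smul_zero]
  · show ((ψ₁ (iota p m₁))⁻¹ • ψ₁) (iota p m₂) = 0
    rw [LinearMap.smul_apply, h12, smul_zero]
  · show ((ψ₂ (iota p m₂))⁻¹ • ψ₂) (iota p m₂) = 1
    rw [LinearMap.smul_apply, smul_eq_mul, inv_mul_cancel₀ hψ₂]

end nak

section main

variable {A M : Type u} [CommRing A] [AddCommGroup M] [Module A M]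

lemma field_identity {κ : Type*} [Field κ] [Fintype κ] (a b : κ) {d : ℕ}
    (hd : Fintype.card κ < d) :
    a ^ Fintype.card κ * b ^ (d - Fintype.card κ) = a ^ 1 * b ^ (d - 1) := by
  have hb : b ^ (d - 1) = b ^ (d - Fintype.card κ) := by
    have hpos : 0 < Fintype.card κ := Fintype.card_pos
    have e1 : d - 1 = (d - Fintype.card κ - 1) + Fintype.card κ := by omega
    have e2 : d - Fintype.card κ = (d - Fintype.card κ - 1) + 1 := by omega
    rw [e1, pow_add, FiniteField.pow_card]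
    conv_rhs => rw [e2, pow_succ]
  rw [FiniteField.pow_card, pow_one, hb]

theorem card_or_cyclic [Module.Finite A M] (d : ℕ)
    (h : Submodule.span A (Set.range (dp A d : M → DividedPowerAlgebra A M)) =
      PolLaw.gammaPiece A M d)
    (p : PrimeSpectrum A) :
    (d : Cardinal) ≤ Cardinal.mk p.asIdeal.ResidueField ∨
      ∃ x : LocalizedModule p.asIdeal.primeCompl M,
        Submodule.span (Localization.AtPrime p.asIdeal) {x} = ⊤ := by
  classical
  by_contra hcon
  rw [not_or] at hcon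
  obtain ⟨hcard, hnc⟩ := hcon
  rw [not_le] at hcard
  haveI hfin : Finite p.asIdeal.ResidueField := by
    rw [← Cardinal.lt_aleph0_iff_finite]
    exact hcard.trans (Cardinal.natCast_lt_aleph0 (n := d))
  haveI : Fintype p.asIdeal.ResidueField := Fintype.ofFinite _
  have hqd : Fintype.card p.asIdeal.ResidueField < d := by
    rw [Cardinal.mk_fintype] at hcard
    exact_mod_cast hcard
  have hq2 : 1 < Fintype.card p.asIdeal.ResidueField := Fintype.one_lt_card
  obtain ⟨m₁, m₂, φ₁, φ₂, h11, h21, h12, h22⟩ := exists_dual_pair p.asIdeal hnc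
  obtain ⟨B₁, -, hB₁⟩ := Finset.exists_subset_card_eq (s := (Finset.univ : Finset (Fin d)))
    (n := Fintype.card p.asIdeal.ResidueField)
    (by rw [Finset.card_univ, Fintype.card_fin]; exact hqd.le)
  obtain ⟨B₂, -, hB₂⟩ := Finset.exists_subset_card_eq (s := (Finset.univ : Finset (Fin d)))
    (n := 1) (by rw [Finset.card_univ, Fintype.card_fin]; omega)
  have hg : dp A (Fintype.card p.asIdeal.ResidueField) m₁ *
      dp A (d - Fintype.card p.asIdeal.ResidueField) m₂ ∈ PolLaw.gammaPiece A M d := by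
    apply Submodule.subset_span
    refine ⟨2, ![Fintype.card p.asIdeal.ResidueField, d - Fintype.card p.asIdeal.ResidueField],
      ![m₁, m₂], ?_, ?_⟩
    · simp [Fin.sum_univ_two]
      omega
    · simp [Fin.prod_univ_two]
  rw [← h] at hg
  have hε := eps_sq p.asIdeal.ResidueField d
  have hker : ∀ y ∈ Submodule.span A (Set.range (dp A d : M → DividedPowerAlgebra A M)),
      ΦB (eps p.asIdeal.ResidueField d) hε φ₁ φ₂ B₁ y =
        ΦB (eps p.asIdeal.ResidueField d) hε φ₁ φ₂ B₂ y := by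
    intro y hy
    induction hy using Submodule.span_induction with
    | mem x hx =>
      obtain ⟨m, rfl⟩ := hx
      rw [ΦB_dp_top, ΦB_dp_top, hB₁, hB₂, field_identity _ _ hqd]
    | zero => rw [map_zero, map_zero]
    | add x y _ _ hx hy => rw [map_add, map_add, hx, hy]
    | smul a x _ hx => rw [map_smul, map_smul, hx]
  have hfin := hker _ hg
  rw [map_mul, map_mul] at hfin
  have e1 : ΦB (eps p.asIdeal.ResidueField d) hε φ₁ φ₂ B₁
      (dp A (Fintype.card p.asIdeal.ResidueField) m₁) = ∏ i ∈ B₁, eps p.asIdeal.ResidueField d i := by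
    rw [← hB₁]
    exact ΦB_dp_left _ hε φ₁ φ₂ B₁ m₁ h11 h21
  have e2 : ΦB (eps p.asIdeal.ResidueField d) hε φ₁ φ₂ B₁
      (dp A (d - Fintype.card p.asIdeal.ResidueField) m₂) =
        ∏ i ∈ B₁ᶜ, eps p.asIdeal.ResidueField d i := by
    rw [← hB₁]
    exact ΦB_dp_right _ hε φ₁ φ₂ B₁ m₂ h12 h22
  have e3 : ΦB (eps p.asIdeal.ResidueField d) hε φ₁ φ₂ B₂
      (dp A (Fintype.card p.asIdeal.ResidueField) m₁) = 0 :=
    ΦB_dp_left_zero _ hε φ₁ φ₂ B₂ m₁ h21 (by rw [hB₂]; exact hq2)
  rw [e1, e2, e3, zero_mul, Finset.prod_mul_prod_compl] at hfin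
  exact prod_eps_ne_zero p.asIdeal.ResidueField d hfin

end main

end Groth.Agent.Lib.Helper6.GamSpan
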